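import Cfsg.Agent.H44.RankAmb
import Cfsg.Agent.H44.BalImage
import Cfsg.Agent.H21.PAct
import Cfsg.Agent.H3.ClassTwo
import Cfsg.Agent.S1443

/-!
The Thompson–Bender lemma: for odd `p`, if a `p`-group `A` normalizes the `p'`-group `Q`, both
normalize the `p`-group `P`, and `Q` centralizes all elements of order `p` of `C_P(A)`, then `Q`
centralizes `P`.
-/

set_option autoImplicit false

namespace Cfsg.Agent.H44

open Subgroup
open scoped commutatorElement

universe u v

variable {G : Type u} [Group G] {p : ℕ}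

/-- Palindromic product of a list. -/
def pal : List G → G
  | [] => 1
  | a :: l => a * pal l * a

theorem pal_mem {P : Subgroup G} : ∀ {l : List G}, (∀ a ∈ l, a ∈ P) → pal l ∈ P
  | [], _ => P.one_mem
  | a :: _, h => P.mul_mem (P.mul_mem (h a List.mem_cons_self)
      (pal_mem fun b hb => h b (List.mem_cons_of_mem _ hb))) (h a List.mem_cons_self)

theorem pal_perm {P : Subgroup G} (hP : ⁅P, P⁆ ≤ centralizer (P : Set G)) {l₁ l₂ : List G}
    (h : l₁.Perm l₂) : (∀ a ∈ l₁, a ∈ P) → pal l₁ = pal l₂ := by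
  induction h with
  | nil => exact fun _ => rfl
  | cons a _ ih =>
    intro hm
    simp only [pal]
    rw [ih fun b hb => hm b (List.mem_cons_of_mem _ hb)]
  | swap a b l =>
    intro hm
    have ha : a ∈ P := hm a (by simp)
    have hb : b ∈ P := hm b (by simp)
    have hF : pal l ∈ P := pal_mem fun c hc => hm c (by simp [hc])
    have hc := hP (Subgroup.commutator_mem_commutator hb ha)
    have h1 := hc _ (P.mul_mem (P.mul_mem (P.mul_mem (P.mul_mem ha hb) hF) ha) hb)
    have h2 := hc _ (P.mul_mem ha hb)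
    simp only [pal]
    calc b * (a * pal l * a) * b = ⁅b, a⁆ * (a * b * pal l * a * b) := by
          rw [commutatorElement_def]; group
      _ = a * b * pal l * (a * b * ⁅b, a⁆) := by rw [← h1]; group
      _ = _ := by rw [h2, commutatorElement_def]; group
  | trans h1 _ ih1 ih2 =>
    intro hm
    rw [ih1 hm, ih2 fun a ha => hm a (h1.mem_iff.2 ha)]

theorem conj_pal (g : G) : ∀ l : List G, g * pal l * g⁻¹ = pal (l.map fun a => g * a * g⁻¹)
  | [] => by simp [pal]
  | a :: l => by
    simp only [pal, List.map_cons]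
    rw [← conj_pal g l]; group

theorem pal_map_mul {P : Subgroup G} {d : G} (hd : d ∈ centralizer (P : Set G)) :
    ∀ {l : List G}, (∀ a ∈ l, a ∈ P) → pal (l.map fun a => a * d) = pal l * d ^ (2 * l.length)
  | [], _ => by simp [pal]
  | a :: l, h => by
    have ha : a ∈ P := h a List.mem_cons_self
    have hl : ∀ b ∈ l, b ∈ P := fun b hb => h b (List.mem_cons_of_mem _ hb)
    have h1 : Commute d (pal l) := (hd _ (pal_mem hl)).symm
    have h2 : Commute d a := (hd _ ha).symm
    simp only [pal, List.map_cons, List.length_cons]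
    rw [pal_map_mul hd hl]
    calc a * d * (pal l * d ^ (2 * l.length)) * (a * d)
        = a * (d * pal l) * (d ^ (2 * l.length) * a) * d := by group
      _ = a * pal l * (d * a) * d ^ (2 * l.length) * d := by
        rw [h1.eq, (h2.pow_left _).eq]; group
      _ = _ := by rw [h2.eq]; group

theorem toList_map_perm {α : Type*} [Fintype α] (e : α ≃ α) :
    ((Finset.univ : Finset α).toList.map e).Perm (Finset.univ : Finset α).toList :=
  (List.perm_ext_iff_of_nodup ((Finset.nodup_toList _).map e.injective)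
    (Finset.nodup_toList _)).2 fun a => by simp [e.surjective a]

/-- Correcting an element fixed modulo `C_P(Q)` to a fixed element, in class two. -/
theorem exists_fixed_of_class_two [Finite G] {P Q : Subgroup G}
    (hP : ⁅P, P⁆ ≤ centralizer (P : Set G)) (hQP : Q ≤ normalizer (P : Set G))
    (hD : P ⊓ centralizer (Q : Set G) ≤ centralizer (P : Set G)) {x : G} (hx : x ∈ P) :
    ∃ s ∈ P ⊓ centralizer (Q : Set G), ∀ a ∈ normalizer (Q : Set G),
      x⁻¹ * (a * x * a⁻¹) ∈ P ⊓ centralizer (Q : Set G) →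
        a * (x ^ (2 * Nat.card Q) * s⁻¹) * a⁻¹ = x ^ (2 * Nat.card Q) * s⁻¹ := by
  haveI := Fintype.ofFinite Q
  set L := (Finset.univ : Finset Q).toList with hL
  have hlen : L.length = Nat.card Q := by rw [hL, Finset.length_toList, Finset.card_univ,
    Nat.card_eq_fintype_card]
  have hmem : ∀ y ∈ P, ∀ M : List Q, ∀ a ∈ M.map fun k : Q => (k : G) * y * (k : G)⁻¹, a ∈ P := by
    intro y hy M a ha
    obtain ⟨k, -, rfl⟩ := List.mem_map.1 ha
    exact (Subgroup.mem_normalizer_iff.1 (hQP k.2) y).1 hy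
  set s := pal (L.map fun k : Q => (k : G) * x * (k : G)⁻¹) with hs
  refine ⟨s, ⟨pal_mem (hmem x hx L), fun q hq => ?_⟩, fun a ha hd => ?_⟩
  · rw [← mul_inv_eq_iff_eq_mul, hs, conj_pal, List.map_map,
      ← pal_perm hP ((toList_map_perm (Equiv.mulLeft (⟨q, hq⟩ : Q))).map _) (hmem x hx _),
      List.map_map]
    congr 2
    ext k
    simp [mul_assoc]
  · set d := x⁻¹ * (a * x * a⁻¹) with hd'
    have hxa : a * x * a⁻¹ = x * d := by rw [hd']; group
    have h1 : a * s * a⁻¹ = s * d ^ (2 * Nat.card Q) := by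
      have e1 := pal_map_mul (hD hd) (hmem x hx L)
      rw [List.length_map, hlen, List.map_map] at e1
      have e2 := pal_perm hP ((toList_map_perm (Q.normalizerMonoidHom ⟨a, ha⟩).toEquiv).map
        ((fun b => b * d) ∘ fun k : Q => (k : G) * x * (k : G)⁻¹)) (fun b hb => by
          obtain ⟨k, -, rfl⟩ := List.mem_map.1 hb
          exact P.mul_mem ((Subgroup.mem_normalizer_iff.1 (hQP k.2) x).1 hx) hd.1)
      rw [← e1, ← e2, conj_pal, List.map_map, List.map_map]
      congr 2
      ext k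
      have h2 : ∀ k' : Q, (k' : G) * d = d * k' := fun k' => hd.2 k' k'.2
      have h3 := h2 (Q.normalizerMonoidHom ⟨a, ha⟩ k)⁻¹
      simp only [Function.comp_apply, MulEquiv.toEquiv_eq_coe, EquivLike.coe_coe,
        normalizerMonoidHom_apply_apply_coe, coe_inv] at h3 ⊢
      rw [mul_assoc _ _ d, h3, hd']
      group
    have h4 : Commute x d := hD hd x hx
    have h5 : Commute s d := hD hd s (pal_mem (hmem x hx L))
    calc a * (x ^ (2 * Nat.card Q) * s⁻¹) * a⁻¹
        = (a * x * a⁻¹) ^ (2 * Nat.card Q) * (a * s * a⁻¹)⁻¹ := by rw [conj_pow]; group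
      _ = _ := by
        rw [hxa, h1, h4.mul_pow, (h5.pow_right _).eq, mul_inv_rev, mul_assoc,
          ← mul_assoc (d ^ _), ((h5.inv_left.pow_right _).eq).symm, mul_assoc, mul_inv_cancel,
          mul_one]

theorem thompson_bender_q [Finite G] [hp : Fact p.Prime] (hp2 : p ≠ 2) {q : ℕ} [Fact q.Prime]
    (hqp : q ≠ p) {A Q : Subgroup G} (hA : IsPGroup p A) (hQ : IsPGroup q Q)
    (hAQ : A ≤ normalizer (Q : Set G)) (P : Subgroup G) : IsPGroup p P →
    A ≤ normalizer (P : Set G) → Q ≤ normalizer (P : Set G) →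
    (∀ x ∈ P ⊓ centralizer (A : Set G), x ^ p = 1 → x ∈ centralizer (Q : Set G)) →
    ⁅P, Q⁆ = ⊥ := by
  induction P using WellFoundedLT.induction with
  | ind P ih =>
  intro hP hAP hQP h
  have hQc : (Nat.card Q).Coprime p := coprime_of_isPGroup_of_ne hqp hQ
  have ih' : ∀ R < P, A ≤ normalizer (R : Set G) → Q ≤ normalizer (R : Set G) → ⁅R, Q⁆ = ⊥ :=
    fun R hR h1 h2 => ih R hR (hP.to_le hR.le) h1 h2 fun x hx => h x ⟨hR.le hx.1, hx.2⟩
  by_contra hne
  have hPQ : ⁅P, Q⁆ = P := by
    by_contra h1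
    have := ih' _ (lt_of_le_of_ne (commutator_le_left_of_le_normalizer hQP) h1)
      (H21.le_normalizer_commutator hAP hAQ) (Subgroup.normalizer_commutator_ge_right P Q)
    rw [H46.commutator_commutator_eq hQ
      (coprime_iff_not_dvd.1 (coprime_of_isPGroup_of_ne hqp.symm hP)) hQP] at this
    exact hne this
  have hP1 : P ≠ ⊥ := fun e => hne (by rw [e, Subgroup.commutator_bot_left])
  have hP' := ih' _ (H21.commutator_lt_of_isPGroup hP hP Subgroup.le_normalizer hP1)
    (H21.le_normalizer_commutator hAP hAP) (H21.le_normalizer_commutator hQP hQP)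
  set D := P ⊓ centralizer (Q : Set G) with hD
  have hDP : D ≤ centralizer (P : Set G) := by
    rw [← commutator_eq_bot_iff_le_centralizer', ← hPQ, Subgroup.commutator_comm P Q]
    refine Subgroup.commutator_commutator_eq_bot_of_rotate
      (commutator_eq_bot_mono hP' (Subgroup.commutator_mono le_rfl inf_le_left) le_rfl) ?_
    rw [Subgroup.commutator_eq_bot_iff_le_centralizer.2 inf_le_right, Subgroup.commutator_bot_left]
  have hP'D : ⁅P, P⁆ ≤ D :=
    le_inf (Subgroup.commutator_le_self P) (Subgroup.commutator_eq_bot_iff_le_centralizer.1 hP')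
  have hc2 : ⁅P, P⁆ ≤ centralizer (P : Set G) := hP'D.trans hDP
  have hodd : Odd p := hp.out.odd_of_ne_two hp2
  let Ω : Subgroup G :=
    { carrier := {x | x ∈ P ∧ x ^ p = 1}
      one_mem' := ⟨P.one_mem, one_pow p⟩
      inv_mem' := fun hx => ⟨P.inv_mem hx.1, by rw [inv_pow, hx.2, inv_one]⟩
      mul_mem' := fun {x y} hx hy => ⟨P.mul_mem hx.1 hy.1, by
        have hc := hc2 (Subgroup.commutator_mem_commutator hy.1 hx.1)
        have c1 : Commute x ⁅y, x⁆ := hc x hx.1
        have c2 : Commute y ⁅y, x⁆ := hc y hy.1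
        rw [H3.mul_pow_of_odd_of_commute_commutator c1 c2 hodd, hx.2, hy.2, one_mul]
        rw [← H3.commutator_pow_left_of_commute c2, hy.2, commutatorElement_one_left]⟩ }
  have hΩn : ∀ {X : Subgroup G}, X ≤ normalizer (P : Set G) → X ≤ normalizer (Ω : Set G) :=
    fun hX => le_normalizer_of_conj_mem fun s hs a ha =>
      ⟨(Subgroup.mem_normalizer_iff.1 (hX hs) a).1 ha.1, by rw [conj_pow, ha.2]; group⟩
  have hexp : ∀ x ∈ P, x ^ p = 1 := by
    by_contra hc
    have hlt : Ω < P := lt_of_le_of_ne (fun x hx => hx.1) fun e => hc fun x hx => (e.ge hx).2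
    have h1 := commutator_eq_bot_iff_le_centralizer'.1 (ih' Ω hlt (hΩn hAP) (hΩn hQP))
    refine hne (commutator_eq_bot_iff_le_centralizer'.2 (S1443.result p hp2 P ⊥ Q hP bot_le
      (H21.isElementaryAbelian_bot p) hQP hQc fun x hx ho => h1.trans (Subgroup.centralizer_le ?_)))
    exact Set.singleton_subset_iff.2 ⟨hx.1, ho ▸ pow_orderOf_eq_one x⟩
  have hAD : A ≤ normalizer (D : Set G) :=
    H21.le_normalizer_inf hAP (hAQ.trans (normalizer_le_normalizer_centralizer Q))
  have hPA : P ⊓ (D ⊔ A) ≤ D := by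
    rintro x ⟨hx1, hx2⟩
    obtain ⟨d, hd, a, ha, rfl⟩ := (mem_sup_of_le_normalizer hAD).1 hx2
    have haP : a ∈ P := by simpa using P.mul_mem (P.inv_mem hd.1) hx1
    refine D.mul_mem hd ⟨haP, fun k hk => ?_⟩
    have h1 : ⁅k, a⁆ ∈ P ⊓ Q := ⟨commutator_le_right_of_le_normalizer hQP
      (Subgroup.commutator_mem_commutator hk haP), commutator_le_left_of_le_normalizer hAQ
      (Subgroup.commutator_mem_commutator hk ha)⟩
    rw [eq_bot_of_isPGroup_of_coprime (hP.to_le inf_le_left) (coprime_of_le inf_le_right hQc),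
      Subgroup.mem_bot, commutatorElement_eq_one_iff_mul_comm] at h1
    exact h1
  have hlt : D ⊔ A < P ⊔ A := by
    refine lt_of_le_of_ne (sup_le_sup_right inf_le_left A) fun e => hne ?_
    exact Subgroup.commutator_eq_bot_iff_le_centralizer.2
      (((le_inf le_rfl (le_sup_left.trans e.ge)).trans hPA).trans inf_le_right)
  obtain ⟨t, ⟨ht1, ht2⟩, ht3⟩ := SetLike.exists_of_lt
    (H46.lt_inf_normalizer_of_isPGroup (isPGroup_sup_of_le_normalizer hAP hP hA) hlt)
  obtain ⟨x, hx, a, ha, rfl⟩ := (mem_sup_of_le_normalizer hAP).1 ht1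
  have hxn : x ∈ normalizer ((D ⊔ A : Subgroup G) : Set G) := by
    simpa using Subgroup.mul_mem _ ht2
      (Subgroup.inv_mem _ (Subgroup.le_normalizer (Subgroup.mem_sup_right (S := D) ha)))
  have hxD : x ∉ D := fun hxD => ht3 (Subgroup.mul_mem_sup hxD ha)
  obtain ⟨s, hs, hfix⟩ := exists_fixed_of_class_two hc2 hQP hDP hx
  have hy : x ^ (2 * Nat.card Q) * s⁻¹ ∈ P := P.mul_mem (P.pow_mem hx _) (P.inv_mem hs.1)
  have hyD : x ^ (2 * Nat.card Q) * s⁻¹ ∈ D := by
    refine ⟨hy, h _ ⟨hy, fun b hb => ?_⟩ (hexp _ hy)⟩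
    refine mul_inv_eq_iff_eq_mul.1 (hfix b (hAQ hb) (hPA ⟨P.mul_mem (P.inv_mem hx)
      ((Subgroup.mem_normalizer_iff.1 (hAP hb) x).1 hx), ?_⟩))
    have := (Subgroup.mem_normalizer_iff.1 (Subgroup.inv_mem _ hxn) b).1 (Subgroup.mem_sup_right hb)
    simpa [mul_assoc] using Subgroup.mul_mem _ this
      (Subgroup.inv_mem _ (Subgroup.mem_sup_right (S := D) hb))
  refine hxD (mem_of_pow_mem_of_coprime (n := 2 * Nat.card Q)
    (by simpa using D.mul_mem hyD hs) ?_)
  exact Nat.Coprime.coprime_dvd_left (orderOf_dvd_of_pow_eq_one (hexp x hx))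
    (Nat.Coprime.mul_right ((Nat.coprime_primes hp.out Nat.prime_two).2 hp2) hQc.symm)

/-- The Thompson–Bender lemma. -/
theorem thompson_bender [Finite G] [hp : Fact p.Prime] (hp2 : p ≠ 2) {A Q P : Subgroup G}
    (hA : IsPGroup p A) (hQ : ¬ p ∣ Nat.card Q) (hAQ : A ≤ normalizer (Q : Set G))
    (hP : IsPGroup p P) (hAP : A ≤ normalizer (P : Set G)) (hQP : Q ≤ normalizer (P : Set G))
    (h : ∀ x ∈ P ⊓ centralizer (A : Set G), x ^ p = 1 → x ∈ centralizer (Q : Set G)) :
    Q ≤ centralizer (P : Set G) := by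
  refine H46.le_of_forall_sylow_le fun q _ hq => ?_
  obtain ⟨R, hR⟩ := H46.exists_invariant_sylow hA hQ hAQ q
  exact ⟨R, commutator_eq_bot_iff_le_centralizer'.1 (thompson_bender_q hp2
    (fun e => hQ (e ▸ hq)) hA (R.isPGroup'.map _) hR P hP hAP ((Subgroup.map_subtype_le _).trans hQP)
    fun x hx h1 => Subgroup.centralizer_le (Subgroup.map_subtype_le _) (h x hx h1))⟩

end Cfsg.Agent.H44
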